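import Cfsg.Agent.Helper56.J3.Gen
import Cfsg.Agent.Helper56.J3.Rel0
import Cfsg.Agent.Helper56.J3.Rel1
import Cfsg.Agent.Helper56.J3.Rel2
import Cfsg.Agent.Helper56.J3.Rel3
import Cfsg.Agent.Helper56.J3.Rows0
import Cfsg.Agent.Helper56.J3.Rows1
import Cfsg.Agent.Helper56.J3.Fin0
import Cfsg.Agent.Helper56.J3.Fin1
import Cfsg.Agent.Helper56.J3.VC0
import Cfsg.Agent.Helper56.J3.VC1
import Cfsg.Agent.Helper56.J3.VC2
import Cfsg.Agent.Helper56.J3.Cls0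
import Cfsg.Agent.Helper56.J3.Pad1
import Cfsg.Agent.Helper56.J3.Low

set_option autoImplicit false

namespace Cfsg.Agent.Helper56.J3

theorem rel_all : ∀ i, i < 6156 → Cfsg.Agent.Helper28.relPt T1 relL i = true :=
  Cfsg.Agent.Helper28.pts_of_chunks _ 6156 512 13 (by decide) (by decide)
    (Cfsg.Agent.Helper28.allLt_succ _ 12 (Cfsg.Agent.Helper28.allLt_succ _ 11 (Cfsg.Agent.Helper28.allLt_succ _ 10 (Cfsg.Agent.Helper28.allLt_succ _ 9 (Cfsg.Agent.Helper28.allLt_succ _ 8 (Cfsg.Agent.Helper28.allLt_succ _ 7 (Cfsg.Agent.Helper28.allLt_succ _ 6 (Cfsg.Agent.Helper28.allLt_succ _ 5 (Cfsg.Agent.Helper28.allLt_succ _ 4 (Cfsg.Agent.Helper28.allLt_succ _ 3 (Cfsg.Agent.Helper28.allLt_succ _ 2 (Cfsg.Agent.Helper28.allLt_succ _ 1 (Cfsg.Agent.Helper28.allLt_succ _ 0 (Cfsg.Agent.Helper28.allLt_zero _) rel_0) rel_1) rel_2) rel_3) rel_4) rel_5) rel_6) rel_7) rel_8) rel_9) rel_10)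 rel_11) rel_12)

theorem rows_all : ∀ x, x < 6156 → Cfsg.Agent.Helper28.rowChk D1 x = true :=
  Cfsg.Agent.Helper28.pts_of_chunks _ 6156 1024 7 (by decide) (by decide)
    (Cfsg.Agent.Helper28.allLt_succ _ 6 (Cfsg.Agent.Helper28.allLt_succ _ 5 (Cfsg.Agent.Helper28.allLt_succ _ 4 (Cfsg.Agent.Helper28.allLt_succ _ 3 (Cfsg.Agent.Helper28.allLt_succ _ 2 (Cfsg.Agent.Helper28.allLt_succ _ 1 (Cfsg.Agent.Helper28.allLt_succ _ 0 (Cfsg.Agent.Helper28.allLt_zero _) rows_0) rows_1) rows_2) rows_3) rows_4) rows_5) rows_6)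

theorem fin_all : ∀ i, i < 6156 → Cfsg.Agent.Helper28.finPt D1 6156 (fun i => i) T1 D1.tp D1.tc i = true :=
  Cfsg.Agent.Helper28.pts_of_chunks _ 6156 1024 7 (by decide) (by decide)
    (Cfsg.Agent.Helper28.allLt_succ _ 6 (Cfsg.Agent.Helper28.allLt_succ _ 5 (Cfsg.Agent.Helper28.allLt_succ _ 4 (Cfsg.Agent.Helper28.allLt_succ _ 3 (Cfsg.Agent.Helper28.allLt_succ _ 2 (Cfsg.Agent.Helper28.allLt_succ _ 1 (Cfsg.Agent.Helper28.allLt_succ _ 0 (Cfsg.Agent.Helper28.allLt_zero _) fin_0) fin_1) fin_2) fin_3) fin_4) fin_5) fin_6)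

theorem v_all : ∀ i, i < 6156 → vAll i = true :=
  Cfsg.Agent.Helper28.pts_of_chunks _ 6156 1024 7 (by decide) (by decide)
    (Cfsg.Agent.Helper28.allLt_succ _ 6 (Cfsg.Agent.Helper28.allLt_succ _ 5 (Cfsg.Agent.Helper28.allLt_succ _ 4 (Cfsg.Agent.Helper28.allLt_succ _ 3 (Cfsg.Agent.Helper28.allLt_succ _ 2 (Cfsg.Agent.Helper28.allLt_succ _ 1 (Cfsg.Agent.Helper28.allLt_succ _ 0 (Cfsg.Agent.Helper28.allLt_zero _) vchk_0) vchk_1) vchk_2) vchk_3) vchk_4) vchk_5) vchk_6)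

theorem cls_all : ∀ x, x < 6156 → clsPt x = true :=
  Cfsg.Agent.Helper28.pts_of_chunks _ 6156 2048 4 (by decide) (by decide)
    (Cfsg.Agent.Helper28.allLt_succ _ 3 (Cfsg.Agent.Helper28.allLt_succ _ 2 (Cfsg.Agent.Helper28.allLt_succ _ 1 (Cfsg.Agent.Helper28.allLt_succ _ 0 (Cfsg.Agent.Helper28.allLt_zero _) cls_0) cls_1) cls_2) cls_3)

theorem rows2_all : ∀ x, x < 1360 → Cfsg.Agent.Helper28.rowChk D2 x = true :=
  Cfsg.Agent.Helper28.pts_of_chunks _ 1360 1024 2 (by decide) (by decide)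
    (Cfsg.Agent.Helper28.allLt_succ _ 1 (Cfsg.Agent.Helper28.allLt_succ _ 0 (Cfsg.Agent.Helper28.allLt_zero _) rows2_0) rows2_1)

theorem fin2_all : ∀ i, i < 1360 → Cfsg.Agent.Helper28.finPt D2 1360 (fun i => i) T2 D2.tp D2.tc i = true :=
  Cfsg.Agent.Helper28.pts_of_chunks _ 1360 1024 2 (by decide) (by decide)
    (Cfsg.Agent.Helper28.allLt_succ _ 1 (Cfsg.Agent.Helper28.allLt_succ _ 0 (Cfsg.Agent.Helper28.allLt_zero _) fin2_0) fin2_1)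

theorem rows3_all : ∀ x, x < 3 → Cfsg.Agent.Helper28.rowChk D3 x = true :=
  Cfsg.Agent.Helper28.pts_of_chunks _ 3 1024 1 (by decide) (by decide)
    (Cfsg.Agent.Helper28.allLt_succ _ 0 (Cfsg.Agent.Helper28.allLt_zero _) rows3_0)

theorem fin3_all : ∀ i, i < 3 → Cfsg.Agent.Helper28.finPt D3 3 (fun i => i) T3 D3.tp D3.tc i = true :=
  Cfsg.Agent.Helper28.pts_of_chunks _ 3 1024 1 (by decide) (by decide)
    (Cfsg.Agent.Helper28.allLt_succ _ 0 (Cfsg.Agent.Helper28.allLt_zero _) fin3_0)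

theorem rows4_all : ∀ x, x < 2 → Cfsg.Agent.Helper28.rowChk D4 x = true :=
  Cfsg.Agent.Helper28.pts_of_chunks _ 2 1024 1 (by decide) (by decide)
    (Cfsg.Agent.Helper28.allLt_succ _ 0 (Cfsg.Agent.Helper28.allLt_zero _) rows4_0)

theorem fin4_all : ∀ i, i < 2 → Cfsg.Agent.Helper28.finPt D4 2 (fun i => i) T4 D4.tp D4.tc i = true :=
  Cfsg.Agent.Helper28.pts_of_chunks _ 2 1024 1 (by decide) (by decide)
    (Cfsg.Agent.Helper28.allLt_succ _ 0 (Cfsg.Agent.Helper28.allLt_zero _) fin4_0)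

end Cfsg.Agent.Helper56.J3
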